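import Cfsg.Agent.H622.KW.Iso
import Cfsg.Agent.H140.KW.NumQ
import Cfsg.Agent.S1059

/-!
# S4243: the row `G₂(q)` (helper140)
-/

set_option autoImplicit false

namespace Cfsg.Agent.H140.KW

open Subgroup Cfsg Cfsg.Lie Cfsg.Agent.H146.KW Cfsg.Agent.H622.KW
open Cfsg.Agent.H129.CycCard (CycCard card_G2_3 card_G2_6)

universe u

/-- **the row `G₂(q)`** -/
theorem noKW_G2 {T : Type u} [Group T] [Finite T] [IsSimpleGroup T] (h : IsoChevG2 T) : NoKW T := by
  intro H hsimp hna hne hK _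
  obtain ⟨F, _, _, hF3, ⟨e⟩⟩ := h
  obtain ⟨r, hrc⟩ := CharP.exists F
  obtain ⟨n, hr, hn⟩ := FiniteField.card F r
  obtain ⟨s, hs, hsH, hsr, h5⟩ := exists_prime hna hr
  have hs2 : s ≠ 2 := by omega
  obtain ⟨a, ha⟩ : ∃ a, Fintype.card F = a + 1 := ⟨Fintype.card F - 1, by omega⟩
  have ha2 : 2 ≤ a := by omega
  have hsq : ¬ s ∣ a + 1 := by
    rw [← ha, hn]
    intro hd
    exact hsr ((Nat.prime_dvd_prime_iff_eq hs hr).1 (hs.dvd_of_dvd_pow hd))
  -- the isolated primes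
  have iso3 : ∀ t, t.Prime → t ≠ 3 → t ∣ a ^ 2 + 3 * a + 3 → Iso T t (a ^ 2 + 3 * a + 3) := by
    intro t ht ht3 hd
    have hm : ((a ^ 2 + 3 * a + 3 : ℕ) : ℤ) = 1 + ((a + 1 : ℕ) : ℤ) + ((a + 1 : ℕ) : ℤ) ^ 2 := by push_cast; ring
    exact (Iso.of_cycCard ht (card_G2_3 ha hm ht (by rw [← hm]; exact Int.natCast_dvd_natCast.2 hd) ht3)).of_mulEquiv
      e.symm
  have iso6 : ∀ t, t.Prime → t ≠ 3 → t ∣ a ^ 2 + a + 1 → Iso T t (a ^ 2 + a + 1) := by
    intro t ht ht3 hd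
    have hm : ((a ^ 2 + a + 1 : ℕ) : ℤ) = 1 - ((a + 1 : ℕ) : ℤ) + ((a + 1 : ℕ) : ℤ) ^ 2 := by push_cast; ring
    exact (Iso.of_cycCard ht (card_G2_6 ha hm ht (by rw [← hm]; exact Int.natCast_dvd_natCast.2 hd) ht3)).of_mulEquiv
      e.symm
  -- the order
  have hT : Nat.card T = (a + 1) ^ 6 * (a * (a + 2)) ^ 2 * ((a ^ 2 + 3 * a + 3) * (a ^ 2 + a + 1)) := by
    rw [Nat.card_congr e.toEquiv, S1059.result (F := F) rfl, ha, q2, q6]
    ring
  have hN3 : a ^ 2 + 3 * a + 3 ∣ Nat.card T := by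
    rw [hT]
    exact (dvd_mul_right _ _).trans (dvd_mul_left _ _)
  have hN6 : a ^ 2 + a + 1 ∣ Nat.card T := by
    rw [hT]
    exact (dvd_mul_left _ _).trans (dvd_mul_left _ _)
  have h0 : (a + 1) ^ 6 ≠ 0 := by positivity
  have h1 : (a * (a + 2)) ^ 2 ≠ 0 := by positivity
  have h2 : (a ^ 2 + 3 * a + 3) * (a ^ 2 + a + 1) ≠ 0 := by positivity
  have hsp : sp s (Nat.card T) = sp s (a * (a + 2)) ^ 2 * sp s ((a ^ 2 + 3 * a + 3) * (a ^ 2 + a + 1)) := by
    rw [hT, sp_mul (mul_ne_zero h0 h1) h2, sp_mul h0 h1, sp_pow, sp_pow, sp_eq_one hsq, one_pow, one_mul]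
  by_cases h3 : s = 3
  · -- `s = 3`
    subst h3
    have hr5 : 5 ≤ r := by omega
    have heven : a % 2 = 0 := by
      have h7 : ¬ 2 ∣ a + 1 := by
        rw [← ha, hn]
        intro hd
        have := (Nat.prime_dvd_prime_iff_eq Nat.prime_two hr).1 (Nat.prime_two.dvd_of_dvd_pow hd)
        omega
      omega
    obtain ⟨b, hb⟩ : ∃ b, a = 2 * b := ⟨a / 2, by omega⟩
    have hb1 : b ≠ 0 := by omega
    have h23 : sp 3 2 = 1 := sp_eq_one (by norm_num)
    rw [sp_three (by omega)] at hsp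
    have hcase : a % 3 = 0 ∨ a % 3 = 1 := by omega
    rcases hcase with h4 | h4
    · -- `q = 1 mod 3`
      have h6 : ¬ 3 ∣ a ^ 2 + a + 1 := by
        intro h
        have := Nat.mod_eq_zero_of_dvd h
        simp [Nat.add_mod, Nat.pow_mod, h4] at this
      have key := lt_sylow hK hne hs hsH hN6 (fun t ht htN =>
        ⟨_, iso6 t ht (by rintro rfl; exact h6 htN) htN, h6⟩)
      change _ < sp 3 (Nat.card T) at key
      rw [hsp, sp_mul (by omega) (by omega), sp_eq_one (s := 3) (n := a + 2) (by omega), mul_one] at key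
      have h8 : sp 3 a ≤ b := by
        rw [hb, sp_mul (by norm_num) hb1, h23, one_mul]
        exact sp_le hb1
      have h9 : sp 3 a ^ 2 ≤ b ^ 2 := Nat.pow_le_pow_left h8 2
      rw [hb] at key
      rw [hb] at h9
      nlinarith
    · -- `q = 2 mod 3`
      have h6 : ¬ 3 ∣ a ^ 2 + 3 * a + 3 := by
        intro h
        have := Nat.mod_eq_zero_of_dvd h
        simp [Nat.add_mod, Nat.pow_mod, h4] at this
      have key := lt_sylow hK hne hs hsH hN3 (fun t ht htN =>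
        ⟨_, iso3 t ht (by rintro rfl; exact h6 htN) htN, h6⟩)
      change _ < sp 3 (Nat.card T) at key
      rw [hsp, sp_mul (by omega) (by omega), sp_eq_one (s := 3) (n := a) (by omega), one_mul] at key
      have h8 : sp 3 (a + 2) ≤ b + 1 := by
        rw [show a + 2 = 2 * (b + 1) by omega, sp_mul (by norm_num) (by omega), h23, one_mul]
        exact sp_le (by omega)
      have h9 : sp 3 (a + 2) ^ 2 ≤ (b + 1) ^ 2 := Nat.pow_le_pow_left h8 2
      have h10 : a ^ 2 + 3 * a + 3 < (b + 1) ^ 2 * 3 := key.trans_le (Nat.mul_le_mul_right _ h9)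
      rw [hb] at h10
      nlinarith
  · -- `5 ≤ s`
    have hs3 : ¬ s ∣ a ^ 2 + 3 * a + 3 := fun hd => (iso3 s hs h3 hd).not_dvd hs hK hne hsH
    have hs6 : ¬ s ∣ a ^ 2 + a + 1 := fun hd => (iso6 s hs h3 hd).not_dvd hs hK hne hsH
    obtain ⟨N, hNd, hN3', hNle⟩ := exists_third a
    have hN : N ∣ Nat.card T := by
      rw [hT]
      exact hNd.trans (dvd_mul_left _ _)
    have key := lt_sylow hK hne hs hsH hN (fun t ht htN => by
      have ht3 : t ≠ 3 := by rintro rfl; exact hN3' htN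
      rcases ht.dvd_mul.1 (htN.trans hNd) with hd | hd
      · exact ⟨_, iso3 t ht ht3 hd, hs3⟩
      · exact ⟨_, iso6 t ht ht3 hd, hs6⟩)
    change _ < sp s (Nat.card T) at key
    rw [hsp, sp_eq_one (s := s) (n := (a ^ 2 + 3 * a + 3) * (a ^ 2 + a + 1)) (fun hd => by
      rcases hs.dvd_mul.1 hd with hd | hd
      · exact hs3 hd
      · exact hs6 hd), mul_one] at key
    have h8 : sp s (a * (a + 2)) ^ 2 ≤ (a + 2) ^ 2 := Nat.pow_le_pow_left (sp_q2 hs hs2 (by omega)) 2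
    have h9 : (a ^ 2 + 3 * a + 3) * (a ^ 2 + a + 1) < 3 * (a + 2) ^ 2 := by
      have := key.trans_le h8
      omega
    have h10 : (a + 2) ^ 2 * 3 ≤ (a ^ 2 + 3 * a + 3) * (a ^ 2 + a + 1) := by
      obtain ⟨c, rfl⟩ : ∃ c, a = c + 2 := ⟨a - 2, by omega⟩
      ring_nf
      nlinarith [Nat.zero_le c, Nat.zero_le (c ^ 2), Nat.zero_le (c ^ 3), Nat.zero_le (c ^ 4)]
    omega

end Cfsg.Agent.H140.KW
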