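import Cfsg.Agent.H622.KW.Iso
import Cfsg.Agent.H140.KW.NumQ
import Cfsg.Agent.H365.SpFourA

/-!
# S4243: the row `PSp₄(q)`, `q ≥ 3` (helper140)
-/

set_option autoImplicit false

namespace Cfsg.Agent.H140.KW

open Subgroup Cfsg Cfsg.Agent.H146.KW Cfsg.Agent.H622.KW
open Cfsg.Agent.H365.SpFour (tt mul_tt tt_even tt_odd two_tt tt_ge tt_dvd cop_q exists_isol card_mul)

universe u

theorem iso_of_isol {G : Type*} [Group G] [Finite G] {T : Subgroup G} {m : ℕ} (h : Cfsg.Agent.H364.Isol G T m) {t : ℕ}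
    (ht : t.Prime) (htm : t ∣ m) : Iso G t m := by
  refine Iso.of_cycCard ht (d := 1) ⟨T, h.cyc, h.card.dvd, by rw [one_mul, h.card], by rw [h.card]; exact htm, ?_⟩
  intro y hy hyo x hx
  have hy1 : y ≠ 1 := by
    rintro rfl
    rw [orderOf_one] at hyo
    exact ht.one_lt.ne hyo
  exact h.commute_mem hy hy1 (mem_centralizer_singleton_iff.1 hx).symm

/-- a prime outside `{r, s0}` where `n = s0 ^ k` if `n` is a prime power -/
theorem exists_bad {r n : ℕ} (hr : r.Prime) (hn : 2 ≤ n) (hrn : ¬ r ∣ n) : ∃ s0 : ℕ, s0.Prime ∧ r ≠ s0 ∧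
    ∀ s : ℕ, s.Prime → s ≠ s0 → ∀ k, n ≠ s ^ k := by
  by_cases hp : ∃ s0 k : ℕ, s0.Prime ∧ n = s0 ^ k
  · obtain ⟨s0, k, hs0, hk⟩ := hp
    have hk0 : k ≠ 0 := by
      rintro rfl
      rw [pow_zero] at hk
      omega
    refine ⟨s0, hs0, ?_, ?_⟩
    · rintro rfl
      exact hrn (by rw [hk]; exact dvd_pow_self r hk0)
    · intro s hs hne' k' hk'
      have hk0' : k' ≠ 0 := by
        rintro rfl
        rw [pow_zero] at hk'
        omega
      have h1 : s ∣ s0 ^ k := by rw [← hk, hk']; exact dvd_pow_self s hk0'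
      exact hne' ((Nat.prime_dvd_prime_iff_eq hs hs0).1 (hs.dvd_of_dvd_pow h1))
  · obtain ⟨s0, hs0, h0⟩ : ∃ s0 : ℕ, s0.Prime ∧ r ≠ s0 := by
      by_cases h : r = 2
      · exact ⟨3, Nat.prime_three, by omega⟩
      · exact ⟨2, Nat.prime_two, h⟩
    exact ⟨s0, hs0, h0, fun s hs _ k hk => hp ⟨s, k, hs, hk⟩⟩

/-- **the row `PSp₄(q)`** -/
theorem noKW_psp4 {T : Type u} [Group T] [Finite T] [IsSimpleGroup T] {F : Type} [Field F] [Fintype F]
    (hF3 : 3 ≤ Fintype.card F) (e : T ≃* PSp 2 F) : NoKW T := by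
  intro H hsimp hna hne hK _
  obtain ⟨r, n, hr', hn0, hn⟩ := (isPrimePow_nat_iff _).1 (Fintype.isPrimePow_card_of_field (α := F))
  have hr : r.Prime := hr'
  have hreal := Cfsg.Agent.H902.Names.psp_real (F := F) (m := 2) hr hn0 hn.symm le_rfl (fun _ => by rw [hn]; exact hF3)
  have : Finite (PSp 2 F) := Finite.of_equiv _ e.toEquiv
  obtain ⟨U, hU⟩ := exists_isol (G := PSp 2 F) (F := F) hF3 hn.symm hreal rfl
  have hq2 : 2 ≤ Fintype.card F := by omega
  obtain ⟨a, ha⟩ : ∃ a, Fintype.card F = a + 1 := ⟨Fintype.card F - 1, by omega⟩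
  rw [ha] at hU hq2
  have ha2 : 2 ≤ a := by omega
  -- the isolated primes
  have iso : ∀ t, t.Prime → t ∣ tt (a + 1) → Iso T t (tt (a + 1)) := fun t ht hd =>
    (iso_of_isol hU ht hd).of_mulEquiv e.symm
  -- the order
  have hT : Nat.card T = (a + 1) ^ 4 * (a * (a + 2)) ^ 2 * tt (a + 1) := by
    rw [Nat.card_congr e.toEquiv, card_mul hreal, hn, ha, q2]
  have hN : tt (a + 1) ∣ Nat.card T := by
    rw [hT]
    exact dvd_mul_left _ _
  have htt : tt (a + 1) ≠ 0 := by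
    have := mul_tt (q := a + 1) hq2
    rintro h0
    rw [h0, mul_zero] at this
    nlinarith
  have hrq : ∀ s : ℕ, s.Prime → s ≠ r → ¬ s ∣ a + 1 := by
    intro s hs hsr hd
    rw [← ha, ← hn] at hd
    exact hsr ((Nat.prime_dvd_prime_iff_eq hs hr).1 (hs.dvd_of_dvd_pow hd))
  have main : ∀ s : ℕ, s.Prime → s ∣ Nat.card H → s ≠ r → tt (a + 1) < sp s (a * (a + 2)) ^ 2 := by
    intro s hs hsH hsr
    have hs12 : ¬ s ∣ tt (a + 1) := fun hd => (iso s hs hd).not_dvd hs hK hne hsH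
    have key := lt_sylow hK hne hs hsH hN (fun t ht htN => ⟨_, iso t ht htN, hs12⟩)
    change _ < sp s (Nat.card T) at key
    have h0 : (a + 1) ^ 4 ≠ 0 := by positivity
    have h1 : (a * (a + 2)) ^ 2 ≠ 0 := by positivity
    rw [hT, sp_mul (mul_ne_zero h0 h1) htt, sp_mul h0 h1, sp_pow, sp_pow, sp_eq_one (hrq s hs hsr), one_pow, one_mul,
      sp_eq_one hs12, mul_one] at key
    exact key
  rcases Nat.even_or_odd (a + 1) with hev | hodd
  · -- `q` even
    have h2 := tt_even hev hq2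
    have ha' : a % 2 = 1 := by obtain ⟨c, hc⟩ := hev; omega
    have hr2 : r = 2 := by
      have h3 : 2 ∣ a + 1 := hev.two_dvd
      rw [← ha, ← hn] at h3
      exact ((Nat.prime_dvd_prime_iff_eq Nat.prime_two hr).1 (Nat.prime_two.dvd_of_dvd_pow h3)).symm
    obtain ⟨s0, hs0, hs0r, hbad⟩ := exists_bad (n := a + 2) hr (by omega) (by rw [hr2]; omega)
    obtain ⟨s, hs, hsH, hsr, hss0⟩ := not_two_primes hna hr hs0 hs0r
    have hs2 : s ≠ 2 := by rw [← hr2]; exact hsr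
    have key := main s hs hsH hsr
    rw [h2, sp_mul (by omega) (by omega)] at key
    by_cases h4 : s ∣ a
    · have h5 : ¬ s ∣ a + 2 := fun h3 => by
        have h4 : s ∣ 2 := (Nat.dvd_add_right h4).1 h3
        exact hs2 ((Nat.prime_dvd_prime_iff_eq hs Nat.prime_two).1 h4)
      rw [sp_eq_one h5, mul_one] at key
      have h6 : sp s a ^ 2 ≤ a ^ 2 := Nat.pow_le_pow_left (sp_le (by omega)) 2
      nlinarith
    · rw [sp_eq_one h4, one_mul] at key
      have h5 := sp_le_third hs (n := a + 2) (by omega) (hbad s hs hss0)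
      nlinarith
  · -- `q` odd
    have h2 := tt_odd hodd hq2
    obtain ⟨b, hb⟩ : ∃ b, a = 2 * b := by obtain ⟨c, hc⟩ := hodd; exact ⟨c, by omega⟩
    obtain ⟨s, hs, hsH, hsr, h5⟩ := exists_prime hna hr
    have hs2 : s ≠ 2 := by
      rintro rfl
      omega
    have hb1 : b ≠ 0 := by omega
    have key := main s hs hsH hsr
    have h3 : a * (a + 2) = 2 ^ 2 * (b * (b + 1)) := by rw [hb]; ring
    have h4 : sp s (a * (a + 2)) ≤ b + 1 := by
      rw [h3, sp_mul (by norm_num) (by positivity), sp_pow, sp_eq_one (s := s) (n := 2)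
        (fun hd => hs2 ((Nat.prime_dvd_prime_iff_eq hs Nat.prime_two).1 hd)), one_pow, one_mul, sp_mul hb1 (by omega)]
      by_cases h6 : s ∣ b
      · have h7 : ¬ s ∣ b + 1 := fun h8 => hs.one_lt.ne' (Nat.dvd_one.1 ((Nat.dvd_add_right h6).1 h8))
        rw [sp_eq_one h7, mul_one]
        exact (sp_le hb1).trans (by omega)
      · rw [sp_eq_one h6, one_mul]
        exact sp_le (by omega)
    have h6 : sp s (a * (a + 2)) ^ 2 ≤ (b + 1) ^ 2 := Nat.pow_le_pow_left h4 2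
    rw [hb] at h2
    have h7 : tt (2 * b + 1) = 2 * b ^ 2 + 2 * b + 1 := by
      have h8 : (2 * b + 1) ^ 2 + 1 = 2 * (2 * b ^ 2 + 2 * b + 1) := by ring
      omega
    rw [hb, h7] at key
    rw [hb] at h6
    nlinarith

end Cfsg.Agent.H140.KW
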