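import Cfsg.Agent.H622.KW.Iso
import Cfsg.Agent.H140.KW.NumQ
import Cfsg.Agent.S1067

/-!
# S4243: the row `³D₄(q)` (helper140)
-/

set_option autoImplicit false

namespace Cfsg.Agent.H140.KW

open Subgroup Cfsg Cfsg.Lie Cfsg.Agent.H146.KW Cfsg.Agent.H622.KW
open Cfsg.Agent.H129.CycCard (CycCard card_tD4_12)

universe u

/-- `q⁴ - q² + 1` for `q = a + 1` -/
def ph12 (a : ℕ) : ℕ := (a + 1) ^ 2 * (a * (a + 2)) + 1

theorem q84 (a : ℕ) : (a + 1) ^ 8 + (a + 1) ^ 4 + 1 = (a ^ 2 + 3 * a + 3) * (a ^ 2 + a + 1) * ph12 a := by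
  unfold ph12
  ring

/-- the primes of `Φ₃ Φ₆` and `q² - 1` -/
theorem three_of {s a : ℕ} (hs : s.Prime) (h1 : s ∣ a * (a + 2)) (h2 : s ∣ (a ^ 2 + 3 * a + 3) * (a ^ 2 + a + 1)) :
    s = 3 := by
  have h3 : (a ^ 2 + 3 * a + 3) * (a ^ 2 + a + 1) = a * (a + 2) * (a * (a + 2) + 3) + 3 := by ring
  rw [h3] at h2
  have h4 : s ∣ 3 := (Nat.dvd_add_right (h1.mul_right _)).1 h2
  exact (Nat.prime_dvd_prime_iff_eq hs Nat.prime_three).1 h4

/-- `Φ₃` and `Φ₆` are coprime -/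
theorem not_both {s a : ℕ} (hs : s.Prime) (hsq : ¬ s ∣ a + 1) (h1 : s ∣ a ^ 2 + 3 * a + 3) : ¬ s ∣ a ^ 2 + a + 1 := by
  intro h2
  have h3 : s ∣ 2 * (a + 1) := by
    have h4 : a ^ 2 + 3 * a + 3 = (a ^ 2 + a + 1) + 2 * (a + 1) := by ring
    rw [h4] at h1
    exact (Nat.dvd_add_right h2).1 h1
  rcases hs.dvd_mul.1 h3 with h4 | h4
  · have h5 := (Nat.prime_dvd_prime_iff_eq hs Nat.prime_two).1 h4
    subst h5
    have h6 : (a ^ 2 + a + 1) % 2 = 1 := by
      have h7 : a % 2 = 0 ∨ a % 2 = 1 := by omega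
      rcases h7 with h7 | h7 <;> simp [Nat.add_mod, Nat.pow_mod, h7]
    omega
  · exact hsq h4

theorem odd3 (a : ℕ) : (a ^ 2 + 3 * a + 3) % 2 = 1 := by
  have h7 : a % 2 = 0 ∨ a % 2 = 1 := by omega
  rcases h7 with h7 | h7 <;> simp [Nat.add_mod, Nat.mul_mod, Nat.pow_mod, h7]

theorem odd6 (a : ℕ) : (a ^ 2 + a + 1) % 2 = 1 := by
  have h7 : a % 2 = 0 ∨ a % 2 = 1 := by omega
  rcases h7 with h7 | h7 <;> simp [Nat.add_mod, Nat.pow_mod, h7]

/-- **the bound**, `q ≥ 3` -/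
theorem bound {s a : ℕ} (hs : s.Prime) (ha : 2 ≤ a) (hsq : ¬ s ∣ a + 1) (hk : ∀ k, a ^ 2 + 3 * a + 3 ≠ s ^ k) :
    (sp s (a * (a + 2)) * sp s ((a ^ 2 + 3 * a + 3) * (a ^ 2 + a + 1))) ^ 2 ≤ ph12 a := by
  have h3 := odd3 a
  have h6 := odd6 a
  by_cases hs2 : s = 2
  · subst hs2
    have h7 : ¬ 2 ∣ (a ^ 2 + 3 * a + 3) * (a ^ 2 + a + 1) := fun hd => by
      rcases Nat.prime_two.dvd_mul.1 hd with hd | hd <;> omega
    rw [sp_eq_one h7, mul_one]
    calc sp 2 (a * (a + 2)) ^ 2 ≤ (a * (a + 2)) ^ 2 := Nat.pow_le_pow_left (sp_le (by positivity)) 2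
      _ ≤ ph12 a := by unfold ph12; nlinarith
  by_cases hs3 : s = 3
  · subst hs3
    have ha3 : 3 ≤ a := by
      by_contra h
      have : a = 2 := by omega
      subst this
      exact hsq (by norm_num)
    rw [sp_three (by omega)]
    have h7 := sp_q2 Nat.prime_three (by norm_num) (a := a) (by omega)
    calc (sp 3 (a * (a + 2)) * 3) ^ 2 ≤ ((a + 2) * 3) ^ 2 := Nat.pow_le_pow_left (Nat.mul_le_mul_right _ h7) 2
      _ ≤ ph12 a := by
        obtain ⟨c, rfl⟩ : ∃ c, a = c + 3 := ⟨a - 3, by omega⟩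
        unfold ph12
        ring_nf
        nlinarith [Nat.zero_le c, Nat.zero_le (c ^ 2), Nat.zero_le (c ^ 3), Nat.zero_le (c ^ 4)]
  by_cases h1 : s ∣ a * (a + 2)
  · have h7 : ¬ s ∣ (a ^ 2 + 3 * a + 3) * (a ^ 2 + a + 1) := fun h2 => hs3 (three_of hs h1 h2)
    rw [sp_eq_one h7, mul_one]
    calc sp s (a * (a + 2)) ^ 2 ≤ (a + 2) ^ 2 := Nat.pow_le_pow_left (sp_q2 hs hs2 (by omega)) 2
      _ ≤ ph12 a := by unfold ph12; nlinarith
  rw [sp_eq_one h1, one_mul, sp_mul (by positivity) (by positivity)]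
  by_cases h2 : s ∣ a ^ 2 + 3 * a + 3
  · rw [sp_eq_one (not_both hs hsq h2), mul_one]
    have h7 := sp_le_third hs h3 hk
    have h8 : (3 * sp s (a ^ 2 + 3 * a + 3)) ^ 2 ≤ (a ^ 2 + 3 * a + 3) ^ 2 := Nat.pow_le_pow_left h7 2
    have h9 : (a ^ 2 + 3 * a + 3) ^ 2 ≤ 9 * ph12 a := by
      obtain ⟨c, rfl⟩ : ∃ c, a = c + 2 := ⟨a - 2, by omega⟩
      unfold ph12
      ring_nf
      nlinarith [Nat.zero_le c, Nat.zero_le (c ^ 2), Nat.zero_le (c ^ 3), Nat.zero_le (c ^ 4)]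
    have h10 : 9 * sp s (a ^ 2 + 3 * a + 3) ^ 2 ≤ 9 * ph12 a := by
      calc 9 * sp s (a ^ 2 + 3 * a + 3) ^ 2 = (3 * sp s (a ^ 2 + 3 * a + 3)) ^ 2 := by ring
        _ ≤ _ := h8.trans h9
    omega
  · rw [sp_eq_one h2, one_mul]
    calc sp s (a ^ 2 + a + 1) ^ 2 ≤ (a ^ 2 + a + 1) ^ 2 := Nat.pow_le_pow_left (sp_le (by positivity)) 2
      _ ≤ ph12 a := by
        unfold ph12
        ring_nf
        nlinarith [Nat.zero_le a, Nat.zero_le (a ^ 2), Nat.zero_le (a ^ 3), Nat.zero_le (a ^ 4)]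

/-- **the row `³D₄(q)`** -/
theorem noKW_twD4 {T : Type u} [Group T] [Finite T] [IsSimpleGroup T] (h : Iso3D4 T) : NoKW T := by
  intro H hsimp hna hne hK _
  obtain ⟨F, _, _, q, hqp, hF, ⟨e⟩⟩ := h
  obtain ⟨r, n, hr', hn0, hn⟩ := (isPrimePow_nat_iff q).1 hqp
  have hr : r.Prime := hr'
  obtain ⟨a, rfl⟩ : ∃ a, q = a + 1 := ⟨q - 1, by have := hqp.one_lt; omega⟩
  have ha1 : 1 ≤ a := by have := hqp.one_lt; omega
  -- the isolated primes
  have iso : ∀ t, t.Prime → t ∣ ph12 a → Iso T t (ph12 a) := by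
    intro t ht hd
    have hm : ((ph12 a : ℕ) : ℤ) = 1 - ((a + 1 : ℕ) : ℤ) ^ 2 + ((a + 1 : ℕ) : ℤ) ^ 4 := by
      unfold ph12
      push_cast; ring
    exact (Iso.of_cycCard ht (card_tD4_12 hqp hF hm ht (by rw [← hm]; exact Int.natCast_dvd_natCast.2 hd))).of_mulEquiv
      e.symm
  -- the order
  have hT : Nat.card T = (a + 1) ^ 12 * (a * (a + 2) * ((a ^ 2 + 3 * a + 3) * (a ^ 2 + a + 1))) ^ 2 * ph12 a := by
    rw [Nat.card_congr e.toEquiv, S1067.result hqp hF, q2, q6, q84]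
    ring
  have hN : ph12 a ∣ Nat.card T := by
    rw [hT]
    exact dvd_mul_left _ _
  have hph : ph12 a ≠ 0 := by unfold ph12; omega
  have main : ∀ s : ℕ, s.Prime → s ∣ Nat.card H → s ≠ r → ph12 a < (sp s (a * (a + 2)) *
      sp s ((a ^ 2 + 3 * a + 3) * (a ^ 2 + a + 1))) ^ 2 := by
    intro s hs hsH hsr
    have hsq : ¬ s ∣ a + 1 := by
      rw [← hn]
      intro hd
      exact hsr ((Nat.prime_dvd_prime_iff_eq hs hr).1 (hs.dvd_of_dvd_pow hd))
    have hs12 : ¬ s ∣ ph12 a := fun hd => (iso s hs hd).not_dvd hs hK hne hsH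
    have key := lt_sylow hK hne hs hsH hN (fun t ht htN => ⟨_, iso t ht htN, hs12⟩)
    change _ < sp s (Nat.card T) at key
    have h0 : (a + 1) ^ 12 ≠ 0 := by positivity
    have h1 : a * (a + 2) ≠ 0 := by positivity
    have h2 : (a ^ 2 + 3 * a + 3) * (a ^ 2 + a + 1) ≠ 0 := by positivity
    have h3 : (a * (a + 2) * ((a ^ 2 + 3 * a + 3) * (a ^ 2 + a + 1))) ^ 2 ≠ 0 := pow_ne_zero 2 (mul_ne_zero h1 h2)
    rw [hT, sp_mul (mul_ne_zero h0 h3) hph, sp_mul h0 h3, sp_pow, sp_pow, sp_eq_one hsq, one_pow, one_mul, sp_mul h1 h2,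
      sp_eq_one hs12, mul_one] at key
    exact key
  by_cases ha : 2 ≤ a
  · -- a bad prime
    obtain ⟨s0, hs0, hs0r, hbad⟩ : ∃ s0 : ℕ, s0.Prime ∧ r ≠ s0 ∧ ∀ s : ℕ, s.Prime → s ≠ s0 →
        ∀ k, a ^ 2 + 3 * a + 3 ≠ s ^ k := by
      by_cases hp : ∃ s0 k : ℕ, s0.Prime ∧ a ^ 2 + 3 * a + 3 = s0 ^ k
      · obtain ⟨s0, k, hs0, hk⟩ := hp
        have hk0 : k ≠ 0 := by
          rintro rfl
          rw [pow_zero] at hk
          nlinarith
        refine ⟨s0, hs0, ?_, ?_⟩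
        · rintro rfl
          have h1 : r ∣ a ^ 2 + 3 * a + 3 := by rw [hk]; exact dvd_pow_self r hk0
          have h2 : r ∣ a + 1 := by rw [← hn]; exact dvd_pow_self r (by omega)
          have h3 : a ^ 2 + 3 * a + 3 = (a + 1) * (a + 2) + 1 := by ring
          rw [h3] at h1
          exact hr.one_lt.ne' (Nat.dvd_one.1 ((Nat.dvd_add_right (h2.mul_right _)).1 h1))
        · intro s hs hne' k' hk'
          have hk0' : k' ≠ 0 := by
            rintro rfl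
            rw [pow_zero] at hk'
            nlinarith
          have h1 : s ∣ s0 ^ k := by rw [← hk, hk']; exact dvd_pow_self s hk0'
          exact hne' ((Nat.prime_dvd_prime_iff_eq hs hs0).1 (hs.dvd_of_dvd_pow h1))
      · obtain ⟨s0, hs0, h0⟩ : ∃ s0 : ℕ, s0.Prime ∧ r ≠ s0 := by
          by_cases h : r = 2
          · exact ⟨3, Nat.prime_three, by omega⟩
          · exact ⟨2, Nat.prime_two, h⟩
        exact ⟨s0, hs0, h0, fun s hs _ k hk => hp ⟨s, k, hs, hk⟩⟩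
    obtain ⟨s, hs, hsH, hsr, hss0⟩ := not_two_primes hna hr hs0 hs0r
    have hsq : ¬ s ∣ a + 1 := by
      rw [← hn]
      intro hd
      exact hsr ((Nat.prime_dvd_prime_iff_eq hs hr).1 (hs.dvd_of_dvd_pow hd))
    exact absurd (main s hs hsH hsr) (not_lt.2 (bound hs ha hsq (hbad s hs hss0)))
  · -- `q = 2`
    have ha' : a = 1 := by omega
    subst ha'
    have hcard : Nat.card T = 2 ^ 12 * 3 ^ 4 * 7 ^ 2 * 13 := by
      rw [hT]
      unfold ph12
      norm_num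
    obtain ⟨s, hs, hsH, hs2, hs3⟩ := not_two_primes hna Nat.prime_two Nat.prime_three (by norm_num)
    have hsT : s ∣ 2 ^ 12 * 3 ^ 4 * 7 ^ 2 * 13 := by
      rw [← hcard]
      exact hsH.trans (Subgroup.card_subgroup_dvd_card H)
    have h13 : ph12 1 = 13 := by unfold ph12; norm_num
    have hi : Iso T 13 13 := by
      have := iso 13 (by norm_num) (by rw [h13])
      rwa [h13] at this
    have hs13 : s ≠ 13 := by
      rintro rfl
      exact hi.not_dvd hs hK hne hsH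
    have hs7 : s = 7 := by
      rcases hs.dvd_mul.1 hsT with h | h
      · rcases hs.dvd_mul.1 h with h | h
        · rcases hs.dvd_mul.1 h with h | h
          · exact absurd ((Nat.prime_dvd_prime_iff_eq hs Nat.prime_two).1 (hs.dvd_of_dvd_pow h)) hs2
          · exact absurd ((Nat.prime_dvd_prime_iff_eq hs Nat.prime_three).1 (hs.dvd_of_dvd_pow h)) hs3
        · exact (Nat.prime_dvd_prime_iff_eq hs (by norm_num)).1 (hs.dvd_of_dvd_pow h)
      · exact absurd ((Nat.prime_dvd_prime_iff_eq hs (by norm_num)).1 h) hs13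
    subst hs7
    have hs' := Fact.mk hs
    have hfac : (Nat.card T).factorization 7 = 2 := by
      have h1 : Nat.card T = 7 ^ 2 * (2 ^ 12 * 3 ^ 4 * 13) := by rw [hcard]; ring
      rw [h1, Nat.factorization_mul (by norm_num) (by norm_num), Finsupp.add_apply, Nat.Prime.factorization_pow hs,
        Finsupp.single_eq_same, Nat.factorization_eq_zero_of_not_dvd (by norm_num)]
    obtain ⟨x, hx⟩ := exists_prime_orderOf_dvd_card' (G := H) 7 hsH
    have hx' : orderOf (x : T) = 7 := by rw [Subgroup.orderOf_coe, hx]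
    have h13H : ¬ 13 ∣ Nat.card H := hi.not_dvd (by norm_num) hK hne
    have h1 : ¬ 13 ∣ (centralizer ({(x : T)} : Set T)).index :=
      Cfsg.Agent.H786.KW.Sat.not_dvd_of_card_sq (p := 7) (H := H) (hK 7) hfac (s := 13) (by norm_num) h13H (by norm_num)
        x.2 (k := 1) (by rw [pow_one, ← hx', pow_orderOf_eq_one])
    have h2 : ¬ 13 ∣ Nat.card (centralizer ({(x : T)} : Set T)) :=
      hi.not_dvd_centralizer (by norm_num) (s := 7) (by rw [hx']) (by norm_num)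
    have h3 : 13 ∣ Nat.card (centralizer ({(x : T)} : Set T)) * (centralizer ({(x : T)} : Set T)).index := by
      rw [Subgroup.card_mul_index, hcard]
      exact dvd_mul_left _ _
    rcases (show Nat.Prime 13 by norm_num).dvd_mul.1 h3 with h | h
    · exact h2 h
    · exact h1 h

end Cfsg.Agent.H140.KW
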